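import Mathlib
import Cfsg.Agent.H49.PrimeOrder
import Cfsg.Agent.H45.OrthExtFix.Derange

/-!
Elements of odd order moving one block commute with no skew square root of a non-square, outside one case.
-/

set_option autoImplicit false
set_option linter.unusedSectionVars false
set_option linter.style.haveILetI false

namespace H45

namespace SpUnitFix

open Matrix Polynomial

variable {F : Type*} [Field F] [Fintype F] {d : ℕ}

local notation "Mat" => Matrix (Fin d ⊕ Fin d) (Fin d ⊕ Fin d) F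
local notation "Sp" => Matrix.symplecticGroup (Fin d) F

omit [Fintype F] in
/-- An invariant space of a square root of a non-square has even dimension. -/
theorem even_rank_of_comm {ν : F} (hν : ¬ IsSquare ν) {J M : Mat} (hJJ : J * J = ν • 1) (hc : J * M = M * J) :
    Even M.rank := by
  set W := LinearMap.range M.mulVecLin
  have hJW : ∀ w ∈ W, J.mulVecLin w ∈ W := by
    rintro _ ⟨u, rfl⟩
    exact ⟨J *ᵥ u, by simp only [Matrix.mulVecLin_apply, Matrix.mulVec_mulVec, hc]⟩
  set T : Module.End F W := J.mulVecLin.restrict hJW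
  have hTT : T * T = ν • (1 : Module.End F W) := LinearMap.ext fun u => Subtype.ext (by
    show J *ᵥ (J *ᵥ (u : Fin d ⊕ Fin d → F)) = ν • (u : Fin d ⊕ Fin d → F)
    rw [Matrix.mulVec_mulVec, hJJ, Matrix.smul_mulVec, Matrix.one_mulVec])
  have h := congrArg LinearMap.det hTT
  rw [map_mul, LinearMap.det_smul, map_one, mul_one] at h
  by_contra hodd
  obtain ⟨c, hc'⟩ := Nat.not_even_iff_odd.1 hodd
  change Module.finrank F W = 2 * c + 1 at hc'
  rw [hc'] at h
  have hν0 : ν ≠ 0 := fun h => hν (h ▸ IsSquare.zero)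
  refine hν ⟨LinearMap.det T / ν ^ c, ?_⟩
  rw [div_mul_div_comm, h, pow_succ, pow_mul', pow_two]
  field_simp

/-- The derangement. -/
theorem derange_block {p r η : ℕ} [Fact p.Prime] [CharP F p] (h : H49.EtaData (Nat.card F) r η) (hrp : r ≠ p)
    {ν : F} (hν : ¬ IsSquare ν) {J : Mat} (hJJ : J * J = ν • 1) (hJs : H49.adjS J = -J)
    (hcase : Odd (orderOf ((Nat.card F : ℕ) : ZMod r)) ∨ Even η)
    {y : Sp} (hy : orderOf y = r) (hcomm : J * (y : Mat) = (y : Mat) * J)
    (hrk : ((y : Mat) - 1).rank ≤ 2 * η) : False := by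
  classical
  haveI : Fact (¬ IsSquare ν) := ⟨hν⟩
  obtain ⟨c, hc⟩ := H49.exists_corner_root_order h.prime hrp hy
  haveI : Fact (Irreducible c.q₀) := ⟨c.irred⟩
  have hne : AdjoinRoot.mk c.q₀ (Polynomial.X - 1) ≠ 0 := by
    rw [map_sub, AdjoinRoot.mk_X, map_one, sub_ne_zero]
    intro e
    exact h.prime.ne_one (Nat.dvd_one.1 (hc 1 (by rw [e, one_pow])))
  obtain ⟨P, hP⟩ := AdjoinRoot.mk_surjective (AdjoinRoot.mk c.q₀ (Polynomial.X - 1))⁻¹
  set e := aeval (y : Mat) c.E with he
  have h1 : aeval (y : Mat) (P * c.E) * ((y : Mat) - 1) = e := by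
    have := c.congr.1 (AdjoinRoot.mk_eq_mk.1 (show AdjoinRoot.mk c.q₀ (P * (Polynomial.X - 1)) =
      AdjoinRoot.mk c.q₀ 1 by rw [map_mul, hP, inv_mul_cancel₀ hne, map_one]))
    rw [map_one, one_mul] at this
    conv_rhs => rw [he, ← this, ← map_mul]
    rw [show ((y : Mat) - 1) = aeval (y : Mat) (Polynomial.X - 1 : F[X]) by simp, ← map_mul]
    congr 1
    ring
  have hJe : ∀ R : F[X], J * aeval (y : Mat) R = aeval (y : Mat) R * J := fun R =>
    Algebra.commute_of_mem_adjoin_singleton_of_commute (aeval_mem_adjoin_singleton F _) hcomm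
  have hη0 := h.pos
  rcases H49.corner_rank_bound h c hc with ⟨i, -, -, hdeg, hroot, hs, hi, hrk'⟩ | ⟨hD, hiD, hrk', -, -, hsum⟩
  · -- one self-dual block
    rw [← he] at hrk' hs
    have hle : e.rank ≤ ((y : Mat) - 1).rank := by rw [← h1]; exact Matrix.rank_mul_le_right _ _
    obtain rfl : η = i := by omega
    have hre : e.rank = c.q₀.natDegree := by omega
    obtain ⟨w0, hw0, hw00⟩ : ∃ w, e *ᵥ w = w ∧ w ≠ 0 := by
      obtain ⟨u, hu⟩ : ∃ u, e *ᵥ u ≠ 0 := by
        by_contra hall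
        push Not at hall
        exact c.eps_ne_zero (Matrix.ext_iff_mulVec.2 fun v => by rw [← he, hall, Matrix.zero_mulVec])
      exact ⟨e *ᵥ u, by rw [Matrix.mulVec_mulVec, he, c.idem], hu⟩
    have hdiv : ∀ R : F[X], aeval (y : Mat) R *ᵥ w0 = 0 → c.q₀ ∣ R := fun R hR => by
      by_contra hn
      obtain ⟨a, b, hab⟩ := c.irred.coprime_iff_not_dvd.2 hn
      have h2 := c.kill c.q₀ dvd_rfl
      rw [← he] at h2
      have h3 := congrArg (fun M => M *ᵥ w0) h2
      simp only [← Matrix.mulVec_mulVec, hw0, Matrix.zero_mulVec] at h3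
      have h4 := congrArg (fun S => aeval (y : Mat) S *ᵥ w0) hab
      simp only [map_add, map_mul, map_one, Matrix.one_mulVec, Matrix.add_mulVec, ← Matrix.mulVec_mulVec, h3, hR,
        Matrix.mulVec_zero, add_zero] at h4
      exact hw00 h4.symm
    let ev : F[X] →ₗ[F] (Fin d ⊕ Fin d → F) :=
      { toFun := fun R => aeval (y : Mat) R *ᵥ w0
        map_add' := fun R S => by rw [map_add, Matrix.add_mulVec]
        map_smul' := fun t R => by rw [map_smul, Matrix.smul_mulVec, RingHom.id_apply] }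
    let W := Submodule.map ev (Polynomial.degreeLT F c.q₀.natDegree)
    have hinj : Function.Injective (ev.domRestrict (Polynomial.degreeLT F c.q₀.natDegree)) := by
      rw [← LinearMap.ker_eq_bot, LinearMap.ker_eq_bot']
      intro R hR
      refine Subtype.ext (Polynomial.eq_zero_of_dvd_of_degree_lt (hdiv _ hR) ?_)
      rw [Polynomial.degree_eq_natDegree c.irred.ne_zero]
      exact Polynomial.mem_degreeLT.1 R.2
    have hWd : Module.finrank F W = c.q₀.natDegree := by
      have := LinearMap.finrank_range_of_inj hinj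
      rw [LinearMap.range_domRestrict] at this
      rw [this, LinearEquiv.finrank_eq (Polynomial.degreeLTEquiv F _), Module.finrank_fin_fun]
    have hWle : W ≤ LinearMap.range e.mulVecLin := by
      rintro _ ⟨R, -, rfl⟩
      refine ⟨aeval (y : Mat) R *ᵥ w0, ?_⟩
      show e *ᵥ (aeval (y : Mat) R *ᵥ w0) = aeval (y : Mat) R *ᵥ w0
      rw [Matrix.mulVec_mulVec, he, ← map_mul, mul_comm, map_mul, ← he, ← Matrix.mulVec_mulVec, hw0]
    have hWeq : W = LinearMap.range e.mulVecLin := Submodule.eq_of_le_of_finrank_le hWle (le_of_eq (hre.trans hWd.symm))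
    obtain ⟨R, -, hR⟩ : J *ᵥ w0 ∈ W := by
      rw [hWeq]
      exact ⟨J *ᵥ w0, by rw [Matrix.mulVecLin_apply, Matrix.mulVec_mulVec, he, ← hJe, ← he, ← Matrix.mulVec_mulVec, hw0]⟩
    change aeval (y : Mat) R *ᵥ w0 = J *ᵥ w0 at hR
    have hJR : J * e = aeval (y : Mat) R * e := by
      refine Matrix.ext_iff_mulVec.2 fun v => ?_
      obtain ⟨S, -, hS⟩ : e *ᵥ v ∈ W := by rw [hWeq]; exact ⟨v, rfl⟩
      change aeval (y : Mat) S *ᵥ w0 = e *ᵥ v at hS
      rw [← Matrix.mulVec_mulVec, ← Matrix.mulVec_mulVec, ← hS, Matrix.mulVec_mulVec, hJe, ← Matrix.mulVec_mulVec, ← hR,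
        Matrix.mulVec_mulVec, Matrix.mulVec_mulVec, ← map_mul, ← map_mul, mul_comm]
    have hee : e * e = e := by rw [he]; exact c.idem
    have hadj := congrArg H49.adjS hJR
    rw [H49.adjS_mul, H49.adjS_mul, hs, hJs, mul_neg, he, ← hJe, ← he, hJR, H49.adjS_coe_aeval,
      he, ← map_mul (aeval (y : Mat)) c.E, mul_comm c.E, map_mul, ← he, ← neg_mul, ← map_neg] at hadj
    have hneg := AdjoinRoot.mk_eq_mk.2 (c.congr.2 hadj)
    rw [map_neg] at hneg
    have hsq : AdjoinRoot.mk c.q₀ (R * R) = AdjoinRoot.mk c.q₀ (Polynomial.C ν) := by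
      refine AdjoinRoot.mk_eq_mk.2 (c.congr.2 ?_)
      rw [map_mul, ← he, mul_assoc, ← hJR, ← mul_assoc, ← hJe, mul_assoc, ← hJR, ← mul_assoc, hJJ, aeval_C,
        Algebra.algebraMap_eq_smul_one]
    set α := AdjoinRoot.root c.q₀ with hα
    set β := AdjoinRoot.mk c.q₀ R with hβ
    have hcomp : AdjoinRoot.mk c.q₀ (R.comp (H49.invPoly y)) = aeval (α ^ (orderOf y - 1)) R := by
      rw [← AdjoinRoot.aeval_eq, aeval_comp, H49.invPoly, map_pow, aeval_X]
    have hαy : α ^ orderOf y = 1 := H49.corner_root_pow c (by rw [← SubmonoidClass.coe_pow, pow_orderOf_eq_one]; rfl)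
    have hαinv : α ^ (orderOf y - 1) = α ^ (Nat.card F ^ η) := by
      have hα0 : α ≠ 0 := fun h0 => by
        rw [h0, zero_pow (orderOf_pos y).ne'] at hαy
        exact zero_ne_one hαy
      refine mul_left_cancel₀ hα0 ?_
      rw [← pow_succ', ← pow_succ', Nat.sub_add_cancel (orderOf_pos y), hαy, hroot]
    have hfrob : ∀ (m : ℕ) (z : AdjoinRoot c.q₀), aeval (z ^ (Fintype.card F ^ m)) R = (aeval z R) ^ (Fintype.card F ^ m) := by
      intro m
      induction m with
      | zero => simp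
      | succ m ih =>
        intro z
        rw [pow_succ, pow_mul, pow_mul (aeval z R), ← ih, ← Polynomial.expand_aeval, FiniteField.expand_card, map_pow]
    rw [hcomp, hαinv, Nat.card_eq_fintype_card, hfrob, AdjoinRoot.aeval_eq] at hneg
    obtain ⟨m, hm, hνm⟩ := H45.OrthExtFix.exists_half_power (F := F) (ν := ν) η
    have hηev : Even η := hcase.resolve_left fun ho =>
      Nat.not_odd_iff_even.2 (h.dvd_add_iff (hc _ hroot)).1 ho
    rw [hηev.neg_one_pow] at hνm
    rw [← hβ, hm, pow_succ, pow_mul, pow_two, ← map_mul, hsq, AdjoinRoot.mk_C, ← map_pow, hνm, map_one, one_mul] at hneg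
    have h2β : (2 : AdjoinRoot c.q₀) * β = 0 := by linear_combination -hneg
    have h2 : (2 : AdjoinRoot c.q₀) ≠ 0 := fun h0 => H45.OrthExtFix.two_ne (F := F) (ν := ν) (by
      apply (algebraMap F (AdjoinRoot c.q₀)).injective
      rw [map_ofNat, h0, map_zero])
    have hβ0 := (mul_eq_zero.1 h2β).resolve_left h2
    rw [map_mul, ← hβ, hβ0, mul_zero, AdjoinRoot.mk_C, eq_comm] at hsq
    exact hν (((map_eq_zero_iff _ (AdjoinRoot.coe_injective')).1 hsq).symm ▸ IsSquare.zero)
  · -- a pair of blocks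
    rw [← he] at hrk' hsum
    have hle : (e + H49.adjS e).rank ≤ ((y : Mat) - 1).rank := by
      have h2 : H49.adjS e = (-(H49.adjS (y : Mat)) * H49.adjS (aeval (y : Mat) (P * c.E))) * ((y : Mat) - 1) := by
        have hyy : H49.adjS (y : Mat) * (y : Mat) = 1 := H49.mem_sp_iff_adjS.1 y.2
        conv_lhs => rw [← h1, H49.adjS_mul, H49.adjS_sub, H49.adjS_one]
        rw [show ((y : Mat) - 1) = aeval (y : Mat) (Polynomial.X - 1 : F[X]) by simp,
          mul_assoc (-(H49.adjS (y : Mat))), H49.adjS_comm_aeval, ← mul_assoc]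
        congr 1
        rw [map_sub, aeval_X, map_one, neg_mul, mul_sub, hyy, mul_one, neg_sub]
      conv_lhs => rw [h2, ← h1, ← add_mul]
      exact Matrix.rank_mul_le_right _ _
    have hkey : e.rank = η ∧ c.q₀.natDegree = η := by omega
    rw [hkey.2] at hiD
    rcases h.spec with ⟨ho, hη⟩ | ⟨-, hη⟩
    · have := even_rank_of_comm hν hJJ (M := e) (hJe c.E)
      rw [hkey.1, hη] at this
      exact Nat.not_odd_iff_even.2 this ho
    · have := Nat.le_of_dvd hη0 hiD
      omega

end SpUnitFix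

end H45
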