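import Mathlib
import Cfsg.Agent.H49.Adjoint
import Cfsg.Agent.H48.Form

/-!
Normal forms in the symplectic group of maps squaring to a scalar, by adapted symplectic bases.
-/

set_option autoImplicit false
set_option linter.unusedSectionVars false
set_option linter.style.haveILetI false

namespace H45

namespace SpUnitFix

open Matrix
open H48 (sf)

variable {F : Type*} [Field F] {d : ℕ}

local notation "V" => (Fin d ⊕ Fin d → F)
local notation "Mat" => Matrix (Fin d ⊕ Fin d) (Fin d ⊕ Fin d) F
local notation "Sp" => Matrix.symplecticGroup (Fin d) F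

/-- A basis of symplectic pairs adapted to a map, from a way to find one pair in each stable perpendicular space. -/
theorem exists_adapted (T : V →ₗ[F] V) {z c : F} (hz : z ≠ 0) (hTT : ∀ v, T (T v) = z • v)
    (hTc : ∀ u w, sf (T u) (T w) = c * sf u w) (Good : V → V → Prop)
    (hgood : ∀ a b, Good a b → (∃ s t : F, T a = s • a + t • b) ∧ (∃ s t : F, T b = s • a + t • b))
    (step : ∀ P : Submodule F V, (∀ v ∈ P, T v ∈ P) → (∀ v ∈ P, v ≠ 0 → ∃ w ∈ P, sf v w ≠ 0) →
      (∃ v ∈ P, v ≠ 0) → ∃ a ∈ P, ∃ b ∈ P, sf a b = 1 ∧ Good a b) :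
    ∃ g : Sp, ∀ i : Fin d, Good (g • Pi.single (Sum.inr i) 1) (g • Pi.single (Sum.inl i) 1) := by
  classical
  have key : ∀ k, k ≤ d → ∃ a b : Fin k → V, (∀ i, Good (a i) (b i)) ∧
      (∀ i j, sf (a i) (b j) = if i = j then 1 else 0) ∧ (∀ i j, sf (a i) (a j) = 0) ∧ (∀ i j, sf (b i) (b j) = 0) := by
    intro k
    induction k with
    | zero => exact fun _ => ⟨Fin.elim0, Fin.elim0, fun i => i.elim0, fun i => i.elim0, fun i => i.elim0, fun i => i.elim0⟩
    | succ k ih =>
      intro hk
      obtain ⟨a, b, hG, hab, haa, hbb⟩ := ih (by omega)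
      let P : Submodule F V := (⨅ i, LinearMap.ker (sf (a i))) ⊓ (⨅ i, LinearMap.ker (sf (b i)))
      have hmem : ∀ v, v ∈ P ↔ (∀ i, sf (a i) v = 0) ∧ (∀ i, sf (b i) v = 0) := fun v => by
        simp [P, LinearMap.mem_ker]
      have hba : ∀ i j, sf (b i) (a j) = if i = j then -1 else 0 := fun i j => by
        rw [H48.sf_swap (a j) (b i), hab]
        by_cases h : i = j
        · subst h; simp
        · rw [if_neg h, if_neg (Ne.symm h), neg_zero]
      let π : V → V := fun x => x - ∑ i, (sf x (b i) • a i - sf x (a i) • b i)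
      have hπ : ∀ x, π x ∈ P := fun x => by
        rw [hmem]
        constructor <;> intro j
        · simp only [π, map_sub, map_sum, map_smul, smul_eq_mul, hab, haa, mul_zero, zero_sub, mul_ite, mul_one]
          simp only [Finset.sum_neg_distrib, Finset.sum_ite_eq, Finset.mem_univ, if_true]
          rw [H48.sf_swap (a j) x]; ring
        · simp only [π, map_sub, map_sum, map_smul, smul_eq_mul, hba, hbb, mul_zero, sub_zero, mul_ite, mul_neg, mul_one]
          simp only [Finset.sum_ite_eq, Finset.mem_univ, if_true]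
          rw [H48.sf_swap (b j) x]; ring
      have hperp : ∀ v ∈ P, ∀ x, sf v (π x) = sf v x := fun v hv x => by
        obtain ⟨h1, h2⟩ := (hmem v).1 hv
        simp [π, H48.sf_eq_zero_comm (h1 _), H48.sf_eq_zero_comm (h2 _)]
      have hTP : ∀ v ∈ P, T v ∈ P := fun v hv => by
        obtain ⟨h1, h2⟩ := (hmem v).1 hv
        rw [hmem]
        have hspan : ∀ u, (∃ s t : F, T u = s • u + t • v) → True := fun _ _ => trivial
        have key2 : ∀ u : V, sf (T u) v = 0 → sf u (T v) = 0 := fun u hu => by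
          have h := hTc (T u) v
          rw [hTT, map_smul, LinearMap.smul_apply, smul_eq_mul, hu, mul_zero] at h
          exact (mul_eq_zero.1 h).resolve_left hz
        constructor <;> intro i <;> apply key2
        · obtain ⟨s, t, h⟩ := (hgood _ _ (hG i)).1
          rw [h]; simp [h1, h2]
        · obtain ⟨s, t, h⟩ := (hgood _ _ (hG i)).2
          rw [h]; simp [h1, h2]
      have hne : ∃ v ∈ P, v ≠ 0 := by
        by_contra hall
        push Not at hall
        have htop : (⊤ : Submodule F V) ≤ Submodule.span F (Set.range (Sum.elim a b)) := fun x _ => by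
          have h := hall _ (hπ x)
          rw [sub_eq_zero] at h
          rw [h]
          exact Submodule.sum_mem _ fun i _ => sub_mem (Submodule.smul_mem _ _ (Submodule.subset_span ⟨Sum.inl i, rfl⟩))
            (Submodule.smul_mem _ _ (Submodule.subset_span ⟨Sum.inr i, rfl⟩))
        have h4 := (Submodule.finrank_mono htop).trans (finrank_range_le_card (Sum.elim a b))
        simp at h4
        omega
      obtain ⟨a', ha', b', hb', h1, hG'⟩ := step P hTP (fun v hv hv0 => by
        obtain ⟨x, hx⟩ := H48.exists_sf_ne hv0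
        exact ⟨π x, hπ x, by rwa [hperp v hv]⟩) hne
      obtain ⟨haa', hba'⟩ := (hmem a').1 ha'
      obtain ⟨hab', hbb'⟩ := (hmem b').1 hb'
      refine ⟨Fin.snoc a a', Fin.snoc b b', fun i => ?_, fun i j => ?_, fun i j => ?_, fun i j => ?_⟩
      · induction i using Fin.lastCases with
        | last => simpa using hG'
        | cast i => simpa using hG i
      all_goals
        induction i using Fin.lastCases with
        | last => induction j using Fin.lastCases with
          | last => simp [h1, H48.sf_self]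
          | cast j => simp [H48.sf_eq_zero_comm (haa' j), H48.sf_eq_zero_comm (hba' j), H48.sf_eq_zero_comm (hab' j),
              H48.sf_eq_zero_comm (hbb' j), (Fin.castSucc_lt_last j).ne']
        | cast i => induction j using Fin.lastCases with
          | last => simp [haa' i, hba' i, hab' i, hbb' i, (Fin.castSucc_lt_last i).ne]
          | cast j => simp [hab i j, haa i j, hbb i j]
  obtain ⟨a, b, hG, hab, haa, hbb⟩ := key d le_rfl
  let M : Mat := Matrix.of fun r s => Sum.elim (fun i => b i r) (fun i => a i r) s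
  have hMe : ∀ s, M *ᵥ Pi.single s 1 = Sum.elim b a s := fun s => by
    rw [Matrix.mulVec_single_one]
    funext r
    rcases s with i | i <;> rfl
  have hMsp : M ∈ Matrix.symplecticGroup (Fin d) F := by
    rw [H48.mem_symplectic_iff]
    have hbil : (sf : V →ₗ[F] V →ₗ[F] F).compl₁₂ (Matrix.toLin' M) (Matrix.toLin' M) = sf := by
      refine LinearMap.ext_basis (Pi.basisFun F _) (Pi.basisFun F _) fun i j => ?_
      simp only [Pi.basisFun_apply, LinearMap.compl₁₂_apply, Matrix.toLin'_apply, hMe]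
      rcases i with i | i <;> rcases j with j | j <;> simp only [Sum.elim_inl, Sum.elim_inr, haa, hbb, hab]
      · simp [H48.sf_apply, Pi.single_apply]
      · rw [H48.sf_swap (a j) (b i), hab, H48.sf_apply]
        by_cases h : i = j
        · subst h; simp [Pi.single_apply, apply_ite]
        · simp [Pi.single_apply, h, Ne.symm h]
      · rw [H48.sf_apply]
        by_cases h : i = j
        · subst h; simp [Pi.single_apply, apply_ite]
        · simp [Pi.single_apply, h, Ne.symm h]
      · simp [H48.sf_apply, Pi.single_apply]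
    intro u w
    exact LinearMap.congr_fun₂ hbil u w
  refine ⟨⟨M, hMsp⟩, fun i => ?_⟩
  rw [H48.spSmulDef, H48.spSmulDef]
  show Good (M *ᵥ _) (M *ᵥ _)
  rw [hMe, hMe]
  exact hG i

/-- The standard skew square root of `ν`. -/
def skewStd (d : ℕ) (ν : F) : Matrix (Fin d ⊕ Fin d) (Fin d ⊕ Fin d) F := Matrix.fromBlocks 0 1 (ν • 1) 0

theorem skewStd_single_inr (ν : F) (i : Fin d) : skewStd d ν *ᵥ Pi.single (Sum.inr i) 1 = Pi.single (Sum.inl i) 1 := by
  rw [Matrix.mulVec_single_one]
  funext r
  rcases r with r | r <;> simp [skewStd, Matrix.one_apply, Pi.single_apply, Matrix.col_apply]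

theorem skewStd_single_inl (ν : F) (i : Fin d) : skewStd d ν *ᵥ Pi.single (Sum.inl i) 1 = ν • Pi.single (Sum.inr i) 1 := by
  rw [Matrix.mulVec_single_one]
  funext r
  rcases r with r | r <;> simp [skewStd, Matrix.one_apply, Pi.single_apply, Matrix.col_apply]

/-- Every skew square root of a non-square is conjugate to the standard one. -/
theorem exists_conj_skew [Fintype F] (h2 : (2 : F) ≠ 0) {ν : F} (hν : ¬ IsSquare ν) {J : Mat} (hJJ : J * J = ν • 1)
    (hJ : H49.adjS J = -J) : ∃ g : Sp, J * (g : Mat) = (g : Mat) * skewStd d ν := by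
  have hν0 : ν ≠ 0 := fun h => hν (h ▸ IsSquare.zero)
  have hsq : ∀ v : V, J *ᵥ (J *ᵥ v) = ν • v := fun v => by
    rw [Matrix.mulVec_mulVec, hJJ, Matrix.smul_mulVec, Matrix.one_mulVec]
  have hsk : ∀ u w : V, sf (J *ᵥ u) w = -sf u (J *ᵥ w) := fun u w => by
    rw [H49.sf_mulVec, hJ, Matrix.neg_mulVec, map_neg]
  obtain ⟨g, hg⟩ := exists_adapted (Matrix.toLin' J) hν0 (c := -ν) (fun v => hsq v) (fun u w => by
      simp only [Matrix.toLin'_apply, hsk, hsq, map_smul, smul_eq_mul, neg_mul])
    (fun a b => J *ᵥ a = b)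
    (fun a b h => ⟨⟨0, 1, by simp [h]⟩, ⟨ν, 0, by simp [← h, hsq]⟩⟩)
    (fun P hP hnd ⟨v₀, hv₀, hv₀0⟩ => by
      obtain ⟨v, hv, hq⟩ : ∃ v ∈ P, sf v (J *ᵥ v) ≠ 0 := by
        by_contra hall
        push Not at hall
        obtain ⟨w, hw, hne⟩ := hnd v₀ hv₀ hv₀0
        have hJw : J *ᵥ w ∈ P := hP w hw
        have h := hall (v₀ + J *ᵥ w) (add_mem hv₀ hJw)
        simp only [Matrix.mulVec_add, map_add, LinearMap.add_apply, hall v₀ hv₀, hall _ hJw, zero_add, add_zero, hsq,
          map_smul, smul_eq_mul, hsk w (J *ᵥ v₀)] at h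
        rw [H48.sf_swap v₀ w, hsk w w, hall w hw] at h
        have h3 : (2 : F) * ν * sf v₀ w = 0 := by linear_combination h
        exact hne ((mul_eq_zero.1 h3).resolve_left (mul_ne_zero h2 hν0))
      obtain ⟨s, t, hst⟩ := FiniteField.exists_root_sum_quadratic (f := (Polynomial.X : Polynomial F) ^ 2)
        (g := Polynomial.C (-ν) * Polynomial.X ^ 2 - Polynomial.C (sf v (J *ᵥ v))⁻¹) (Polynomial.degree_X_pow 2)
        (by
          rw [Polynomial.degree_sub_eq_left_of_degree_lt, Polynomial.degree_C_mul_X_pow 2 (neg_ne_zero.2 hν0)]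
          · rfl
          · rw [Polynomial.degree_C_mul_X_pow 2 (neg_ne_zero.2 hν0), Polynomial.degree_C (inv_ne_zero hq)]; norm_num)
        (FiniteField.odd_card_of_char_ne_two
          fun h => h2 (by rw [show (2 : F) = ((2 : ℕ) : F) by norm_num, ← h]; exact CharP.cast_eq_zero F (ringChar F)))
      simp only [Polynomial.eval_pow, Polynomial.eval_X, Polynomial.eval_sub, Polynomial.eval_C, Polynomial.eval_mul] at hst
      refine ⟨s • v + t • (J *ᵥ v), add_mem (P.smul_mem _ hv) (P.smul_mem _ (hP v hv)), _,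
        hP _ (add_mem (P.smul_mem _ hv) (P.smul_mem _ (hP v hv))), ?_, rfl⟩
      simp only [Matrix.toLin'_apply, Matrix.mulVec_add, Matrix.mulVec_smul, hsq, map_add, map_smul, LinearMap.add_apply,
        LinearMap.smul_apply, smul_eq_mul, H48.sf_self, H48.sf_swap v (J *ᵥ v)]
      field_simp at hst
      linear_combination hst)
  refine ⟨g, ?_⟩
  refine Matrix.toLin'.injective ((Pi.basisFun F _).ext fun s => ?_)
  simp only [Pi.basisFun_apply, Matrix.toLin'_apply, ← Matrix.mulVec_mulVec]
  rcases s with i | i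
  · rw [skewStd_single_inl, Matrix.mulVec_smul, ← H48.spSmulDef, ← H48.spSmulDef, ← hg i, hsq]
  · rw [skewStd_single_inr, ← H48.spSmulDef, ← H48.spSmulDef, hg i]

/-- An element squaring to a square scalar `±1` is diagonal in some symplectic basis. -/
theorem exists_diag (h2 : (2 : F) ≠ 0) {z s₀ : F} (hz : z = 1 ∨ z = -1) (hs₀ : s₀ * s₀ = z) (x : Sp)
    (hxx : ∀ v : V, x • x • v = z • v) :
    ∃ (g : Sp) (s : Fin d → F), (∀ i, s i * s i = z) ∧
      (x : Mat) * (g : Mat) = (g : Mat) * Matrix.diagonal (Sum.elim (fun i => (s i)⁻¹) s) := by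
  have hz0 : z ≠ 0 := by rcases hz with rfl | rfl <;> simp
  have hzi : z⁻¹ = z := by rcases hz with rfl | rfl <;> simp
  have hcoe : ∀ v : V, Matrix.toLin' (x : Mat) v = x • v := fun v => (H48.spSmulDef x v).symm
  obtain ⟨g, hg⟩ := exists_adapted (Matrix.toLin' (x : Mat)) hz0 (c := 1) (fun v => by rw [hcoe, hcoe, hxx])
    (fun u w => by rw [hcoe, hcoe, H48.sf_smul_smul, one_mul])
    (fun a b => ∃ s : F, s * s = z ∧ x • a = s • a ∧ x • b = s⁻¹ • b)
    (fun a b ⟨s, _, h1, h3⟩ => ⟨⟨s, 0, by rw [hcoe, h1, zero_smul, add_zero]⟩, ⟨0, s⁻¹, by rw [hcoe, h3, zero_smul, zero_add]⟩⟩)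
    (fun P hP hnd ⟨v₀, hv₀, hv₀0⟩ => by
      have hxP : ∀ v ∈ P, x • v ∈ P := fun v hv => by rw [← hcoe]; exact hP v hv
      have hs0 : s₀ ≠ 0 := fun h => hz0 (by rw [← hs₀, h, mul_zero])
      have proj : ∀ s : F, s * s = z → ∀ v : V, x • (v + s⁻¹ • (x • v)) = s • (v + s⁻¹ • (x • v)) := fun s hs v => by
        have hs' : s ≠ 0 := fun h => hz0 (by rw [← hs, h, mul_zero])
        rw [smul_add, smul_comm, hxx, smul_add, smul_smul, smul_smul, ← hs, inv_mul_cancel_left₀ hs',
          mul_inv_cancel₀ hs', one_smul, add_comm]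
      obtain ⟨s, hs, hne⟩ : ∃ s : F, s * s = z ∧ v₀ + s⁻¹ • (x • v₀) ≠ 0 := by
        by_contra hall
        push Not at hall
        have h1 := hall s₀ hs₀
        have h3 := hall (-s₀) (by rw [neg_mul_neg, hs₀])
        rw [inv_neg, neg_smul] at h3
        have : (2 : F) • v₀ = 0 := by
          revert h1 h3; generalize x • v₀ = u; intro h1 h3
          rw [two_smul]; linear_combination (norm := module) h1 + h3
        exact hv₀0 ((smul_eq_zero.1 this).resolve_left h2)
      have hs' : s ≠ 0 := fun h => hz0 (by rw [← hs, h, mul_zero])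
      have hsi : s⁻¹ * s⁻¹ = z := by rw [← mul_inv, hs, hzi]
      set a := v₀ + s⁻¹ • (x • v₀)
      have haP : a ∈ P := add_mem hv₀ (P.smul_mem _ (hxP _ hv₀))
      have hxa : x • a = s • a := proj s hs v₀
      obtain ⟨w, hw, hsw⟩ := hnd a haP hne
      have hax : s * sf a (x • w) = sf a w := by
        have h := H48.sf_smul_smul x a w
        rwa [hxa, LinearMap.map_smul, LinearMap.smul_apply, smul_eq_mul] at h
      have hval : sf a (w + s⁻¹⁻¹ • (x • w)) = 2 * sf a w := by
        rw [map_add, map_smul, smul_eq_mul, inv_inv, hax]; ring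
      refine ⟨a, haP, ((2 : F) * sf a w)⁻¹ • (w + s⁻¹⁻¹ • (x • w)), P.smul_mem _ (add_mem hw (P.smul_mem _ (hxP _ hw))),
        ?_, s, hs, hxa, ?_⟩
      · rw [map_smul, smul_eq_mul, hval, inv_mul_cancel₀ (mul_ne_zero h2 hsw)]
      · rw [smul_comm, proj _ hsi, smul_comm])
  choose s hs h1 h3 using hg
  refine ⟨g, s, hs, ?_⟩
  refine Matrix.toLin'.injective ((Pi.basisFun F _).ext fun r => ?_)
  simp only [Pi.basisFun_apply, Matrix.toLin'_apply, ← Matrix.mulVec_mulVec]
  have hdiag : ∀ r, Matrix.diagonal (Sum.elim (fun i => (s i)⁻¹) s) *ᵥ Pi.single r (1 : F) =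
      Sum.elim (fun i => (s i)⁻¹) s r • Pi.single r (1 : F) := fun r => by
    funext k
    by_cases h : k = r
    · subst h; simp
    · simp [h]
  rw [hdiag, Matrix.mulVec_smul, ← H48.spSmulDef, ← H48.spSmulDef]
  rcases r with i | i
  · exact h3 i
  · exact h1 i

end SpUnitFix

end H45
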