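import Mathlib
import Cfsg.Prelude.Def_GeometricClasses
import Cfsg.Prelude.Def_LieClassical
import Cfsg.Agent.H50.Count
import Cfsg.Agent.H45.OrthExtFix.Derange
import Cfsg.Agent.H45.SpExtFix.Basic
import Cfsg.Agent.H45.SpUnitFix.Frame

/-!
The unitary group inside the centraliser of the standard skew square root of a non-square.
-/

set_option autoImplicit false
set_option linter.unusedSectionVars false
set_option linter.style.haveILetI false

namespace H45

namespace SpUnitFix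

open Matrix
open H48 (sf)
open OrthExtFix (LExt)

variable {F : Type*} [Field F] [Fintype F] {d : ℕ} {ν : F} [hν : Fact (¬ IsSquare ν)]

local notation "Q" => Fintype.card F

omit [Fintype F] in
/-- Vectors over the extension, as vectors over the field. -/
noncomputable def coordV (d : ℕ) (ν : F) : (Fin d → LExt ν) ≃ₗ[F] (Fin d ⊕ Fin d → F) where
  toFun u := Sum.elim (fun i => (u i).im) (fun i => (u i).re)
  map_add' u w := by funext i; rcases i with i | i <;> simp
  map_smul' t u := by funext i; rcases i with i | i <;> simp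
  invFun v i := ⟨v (Sum.inr i), v (Sum.inl i)⟩
  left_inv u := rfl
  right_inv v := by funext i; rcases i with i | i <;> rfl

/-- The Frobenius of the quadratic extension is conjugation. -/
theorem pow_card_im (c : LExt ν) : (c ^ Q).re = c.re ∧ (c ^ Q).im = -c.im := by
  obtain ⟨m, hm, hνm⟩ := H45.OrthExtFix.exists_half_power (F := F) (ν := ν) 1
  rw [pow_one] at hm
  let ω : LExt ν := ⟨0, 1⟩
  have hωω : ω * ω = algebraMap F (LExt ν) ν := by
    ext <;> simp [ω, QuadraticAlgebra.algebraMap_eq]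
  have hω : ω ^ Q = -ω := by
    rw [hm, pow_succ, pow_mul, pow_two, hωω, ← map_pow, hνm, pow_one, map_neg, map_one, neg_one_mul]
  obtain ⟨p, hp⟩ := CharP.exists F
  obtain ⟨n, hpp, hn⟩ := FiniteField.card F p
  haveI : Fact p.Prime := ⟨hpp⟩
  haveI : CharP (LExt ν) p := charP_of_injective_algebraMap (algebraMap F (LExt ν)).injective p
  have hc : c = algebraMap F (LExt ν) c.re + algebraMap F (LExt ν) c.im * ω := by
    ext <;> simp [ω, QuadraticAlgebra.algebraMap_eq]
  have h : c ^ Q = algebraMap F (LExt ν) c.re - algebraMap F (LExt ν) c.im * ω := by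
    conv_lhs => rw [hc, hn, add_pow_char_pow, mul_pow, ← hn, hω, ← map_pow, ← map_pow, FiniteField.pow_card,
      FiniteField.pow_card]
    ring
  rw [h]
  simp [ω, QuadraticAlgebra.algebraMap_eq]

/-- The symplectic form is the imaginary part of the hermitian form. -/
theorem sf_coordV (u w : Fin d → LExt ν) :
    sf (coordV d ν u) (coordV d ν w) = -(Cfsg.hermForm d (LExt ν) Q u w).im := by
  rw [H48.sf_apply, Cfsg.hermForm]
  have him : ∀ (s : Finset (Fin d)) (f : Fin d → LExt ν), (∑ i ∈ s, f i).im = ∑ i ∈ s, (f i).im := fun s f =>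
    map_sum (AddMonoidHom.mk' (fun c : LExt ν => c.im) (fun _ _ => QuadraticAlgebra.im_add _ _)) f s
  rw [him, ← Finset.sum_neg_distrib]
  refine Finset.sum_congr rfl fun i _ => ?_
  obtain ⟨h1, h2⟩ := pow_card_im (w i)
  show (u i).re * (w i).im - (u i).im * (w i).re = _
  rw [QuadraticAlgebra.im_mul, h1, h2]
  ring

theorem coordV_inl (u : Fin d → LExt ν) (i : Fin d) : coordV d ν u (Sum.inl i) = (u i).im := rfl

theorem coordV_inr (u : Fin d → LExt ν) (i : Fin d) : coordV d ν u (Sum.inr i) = (u i).re := rfl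

theorem skewStd_coordV (u : Fin d → LExt ν) :
    skewStd d ν *ᵥ coordV d ν u = coordV d ν ((⟨0, 1⟩ : LExt ν) • u) := by
  funext r
  rcases r with r | r <;>
    simp [skewStd, coordV_inl, coordV_inr, Matrix.fromBlocks_mulVec, Matrix.smul_mulVec, Function.comp_def]

/-- The unitary group, as symplectic maps commuting with the square root. -/
theorem exists_gu_embedding : ∃ φ : Cfsg.GU d (LExt ν) Q →* GL (Fin d ⊕ Fin d) F, Function.Injective φ ∧
    ∀ g, φ g ∈ Cfsg.spGL d F ∧ (φ g : Matrix _ _ F) * skewStd d ν = skewStd d ν * (φ g : Matrix _ _ F) := by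
  classical
  let lin : Cfsg.GU d (LExt ν) Q → ((Fin d ⊕ Fin d → F) →ₗ[F] (Fin d ⊕ Fin d → F)) := fun g =>
    (coordV d ν).toLinearMap ∘ₗ
      ((Matrix.toLin' ((g : GL (Fin d) (LExt ν)) : Matrix (Fin d) (Fin d) (LExt ν))).restrictScalars F) ∘ₗ
      (coordV d ν).symm.toLinearMap
  have hlin : ∀ g u, lin g (coordV d ν u) =
      coordV d ν (((g : GL (Fin d) (LExt ν)) : Matrix (Fin d) (Fin d) (LExt ν)) *ᵥ u) := fun g u => by simp [lin]
  let hom : Cfsg.GU d (LExt ν) Q →* Matrix (Fin d ⊕ Fin d) (Fin d ⊕ Fin d) F :=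
    { toFun := fun g => LinearMap.toMatrix' (lin g)
      map_one' := by
        refine Matrix.ext_iff_mulVec.2 fun v => ?_
        obtain ⟨u, rfl⟩ := (coordV d ν).surjective v
        rw [LinearMap.toMatrix'_mulVec, hlin, OneMemClass.coe_one, Units.val_one, Matrix.one_mulVec, Matrix.one_mulVec]
      map_mul' := fun g h => by
        refine Matrix.ext_iff_mulVec.2 fun v => ?_
        obtain ⟨u, rfl⟩ := (coordV d ν).surjective v
        rw [← Matrix.mulVec_mulVec]
        simp only [LinearMap.toMatrix'_mulVec, hlin, Subgroup.coe_mul, Units.val_mul, Matrix.mulVec_mulVec] }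
  have hφ : ∀ g u, (hom.toHomUnits g : Matrix (Fin d ⊕ Fin d) (Fin d ⊕ Fin d) F) *ᵥ coordV d ν u =
      coordV d ν (((g : GL (Fin d) (LExt ν)) : Matrix (Fin d) (Fin d) (LExt ν)) *ᵥ u) := fun g u => by
    show LinearMap.toMatrix' (lin g) *ᵥ _ = _
    rw [LinearMap.toMatrix'_mulVec, hlin]
  refine ⟨hom.toHomUnits, fun g h e => Subtype.ext (Units.ext (Matrix.ext_iff_mulVec.2 fun u => ?_)), fun g => ⟨fun a b => ?_, ?_⟩⟩
  · apply (coordV d ν).injective
    rw [← hφ, ← hφ, e]
  · obtain ⟨u, rfl⟩ := (coordV d ν).surjective a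
    obtain ⟨w, rfl⟩ := (coordV d ν).surjective b
    change sf ((hom.toHomUnits g : Matrix (Fin d ⊕ Fin d) (Fin d ⊕ Fin d) F) *ᵥ _)
      ((hom.toHomUnits g : Matrix (Fin d ⊕ Fin d) (Fin d ⊕ Fin d) F) *ᵥ _) = sf (coordV d ν u) (coordV d ν w)
    rw [hφ, hφ, sf_coordV, sf_coordV]
    have h : Cfsg.hermForm d (LExt ν) Q (((g : GL (Fin d) (LExt ν)) : Matrix (Fin d) (Fin d) (LExt ν)) *ᵥ u)
      (((g : GL (Fin d) (LExt ν)) : Matrix (Fin d) (Fin d) (LExt ν)) *ᵥ w) = Cfsg.hermForm d (LExt ν) Q u w := g.2 u w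
    rw [h]
  · refine Matrix.ext_iff_mulVec.2 fun v => ?_
    obtain ⟨u, rfl⟩ := (coordV d ν).surjective v
    rw [← Matrix.mulVec_mulVec, ← Matrix.mulVec_mulVec, skewStd_coordV, hφ, hφ, skewStd_coordV, Matrix.mulVec_smul]

/-- When the order of `q` is twice an odd number the index is prime to `r`. -/
theorem index_bound {r η : ℕ} [hr : Fact r.Prime] (h : H49.EtaData (Nat.card F) r η)
    (he : Even (orderOf ((Nat.card F : ℕ) : ZMod r))) (ho : Odd η) {N : Subgroup (GL (Fin d ⊕ Fin d) F)}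
    (hN : ∀ g ∈ Cfsg.spGL d F, (g : Matrix _ _ F) * skewStd d ν = skewStd d ν * (g : Matrix _ _ F) → g ∈ N) :
    ¬ r ∣ N.relIndex (Cfsg.spGL d F) := by
  classical
  obtain ⟨φ, hφ, hmem⟩ := exists_gu_embedding (d := d) (ν := ν)
  let U := ∏ i ∈ Finset.range d, (if Even i then Q ^ (i + 1) - 1 else Q ^ (i + 1) + 1)
  let P := ∏ i ∈ Finset.range d, (if Even i then Q ^ (i + 1) + 1 else Q ^ (i + 1) - 1)
  have hQ1 : 1 < Q := Fintype.one_lt_card
  have hP : 0 < P := Finset.prod_pos fun i _ => by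
    split_ifs
    · positivity
    · exact Nat.sub_pos_of_lt (Nat.one_lt_pow (Nat.succ_ne_zero i) hQ1)
  have hrQ : ∀ C, ¬ r ∣ Q ^ C := fun C hC => h.q_ne ((ZMod.natCast_eq_zero_iff _ _).2
    (by rw [Nat.card_eq_fintype_card]; exact hr.out.dvd_of_dvd_pow hC))
  refine H45.SpExtFix.not_dvd_relIndex (U := Q ^ (d ^ 2) * U) hP ?_ ?_ ?_
  · rw [H45.SpExtFix.card_spGL, mul_assoc, ← Finset.prod_mul_distrib]
    congr 1
    refine Finset.prod_congr rfl fun i _ => ?_
    have hsq : Q ^ (2 * (i + 1)) - 1 = (Q ^ (i + 1) + 1) * (Q ^ (i + 1) - 1) := by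
      rw [mul_comm 2 (i + 1), pow_mul]; simpa [sq] using Nat.sq_sub_sq (Q ^ (i + 1)) 1
    split_ifs
    · rw [hsq, mul_comm]
    · rw [hsq]
  · refine Dvd.dvd.trans ?_ (Subgroup.card_dvd_of_le (H := φ.range) ?_)
    · rw [← Nat.card_congr (MonoidHom.ofInjective hφ).toEquiv, H50.card_GU H45.OrthExtFix.card_LExt]
      exact Dvd.intro_left _ rfl
    · rintro _ ⟨g, rfl⟩
      exact ⟨hN _ (hmem g).1 (hmem g).2, (hmem g).1⟩
  · rw [hr.out.dvd_mul]
    rintro (hC | hC)
    · exact hrQ _ hC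
    obtain ⟨i, -, hi⟩ := (Prime.dvd_finsetProd_iff hr.out.prime _).1 hC
    rw [← Nat.card_eq_fintype_card] at hi
    split_ifs at hi with hpar
    · have h1 := (h.dvd_sub_iff _).1 hi
      exact Nat.not_even_iff_odd.2 hpar.add_one (he.trans_dvd h1)
    · obtain ⟨-, t, ht, hit⟩ := h.dvd_add_iff hi
      exact Nat.not_odd_iff_even.2 (Nat.not_even_iff_odd.1 hpar).add_one (hit ▸ ho.mul ht)

end SpUnitFix

end H45
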