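import Mathlib
import Cfsg.Agent.H45.SpExtFix.Basic
import Cfsg.Agent.H45.SpUnitFix.Index
import Cfsg.Agent.H45.SpUnitFix.Derange
import Cfsg.Agent.H49.RegularCentralizer

/-!
Elements of prime order of the symplectic group and the unitary type normalisers.
-/

set_option autoImplicit false
set_option linter.unusedSectionVars false
set_option linter.style.haveILetI false

namespace H45

namespace SpUnitFix

open Matrix
open H48 (sf)

variable {F : Type*} [Field F] [Fintype F] {d : ℕ}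

local notation "Mat" => Matrix (Fin d ⊕ Fin d) (Fin d ⊕ Fin d) F
local notation "Sp" => Matrix.symplecticGroup (Fin d) F
local notation "G" => GL (Fin d ⊕ Fin d) F

/-- The field is generated by a skew square root of a non-square. -/
theorem exists_skew_generator (hd : 0 < d) (h2 : (2 : F) ≠ 0) {K : Subalgebra F Mat} (hK : Cfsg.Geo.IsFieldSubalgebra 2 K)
    (hac : Cfsg.Geo.IsAdjointClosedFor (Cfsg.sympForm d F) K) (hns : ¬ Cfsg.Geo.IsSelfAdjointFor (Cfsg.sympForm d F) K) :
    ∃ (ν : F) (J : Mat), ¬ IsSquare ν ∧ J * J = ν • 1 ∧ H49.adjS J = -J ∧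
      ∀ g : G, g ∈ Cfsg.Geo.subalgebraNormalizer K ↔ ((g : Mat) * J = J * g ∨ (g : Mat) * J = -(J * g)) := by
  classical
  haveI : Nonempty (Fin d ⊕ Fin d) := ⟨Sum.inl ⟨0, hd⟩⟩
  obtain ⟨k, hk, u, v, huv⟩ : ∃ k ∈ K, ∃ u v, Cfsg.sympForm d F (k *ᵥ u) v ≠ Cfsg.sympForm d F u (k *ᵥ v) := by
    simpa [Cfsg.Geo.IsSelfAdjointFor] using hns
  obtain ⟨k', hk', hadj⟩ := hac k hk
  have hk'eq : k' = H49.adjS k := by
    refine H49.ext_sf fun a b => ?_
    rw [← H49.sf_mulVec, ← H48.sympForm_eq_sf, ← H48.sympForm_eq_sf]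
    exact (hadj a b).symm
  set j := k - k' with hjdef
  have hjK : j ∈ K := sub_mem hk hk'
  have hjs : H49.adjS j = -j := by rw [hjdef, hk'eq, H49.adjS_sub, H49.adjS_adjS, neg_sub]
  have hj0 : j ≠ 0 := fun h => huv (by rw [hadj u v, ← sub_eq_zero.1 h])
  have hjns : ∀ c : F, j ≠ c • 1 := fun c hc => by
    have h := hjs
    rw [hc, H49.adjS_scalar, ← neg_smul] at h
    have h' := smul_left_injective F (one_ne_zero : (1 : Mat) ≠ 0) h
    have : (2 : F) * c = 0 := by linear_combination h'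
    exact hj0 (by rw [hc, (mul_eq_zero.1 this).resolve_left h2, zero_smul])
  have hli : LinearIndependent F ![(1 : Mat), j] := by
    rw [LinearIndependent.pair_iff' one_ne_zero]
    exact fun c => (hjns c).symm
  have hspan : Submodule.span F (Set.range ![(1 : Mat), j]) = Subalgebra.toSubmodule K := by
    haveI : Module.Finite F K := Module.finite_of_finrank_eq_succ hK.finrank_eq
    refine Submodule.eq_of_le_of_finrank_eq ?_ ?_
    · rw [Submodule.span_le]
      rintro _ ⟨i, rfl⟩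
      fin_cases i
      · exact K.one_mem
      · exact hjK
    · rw [finrank_span_eq_card hli, Fintype.card_fin]
      exact hK.finrank_eq.symm
  have hmemK : ∀ x, x ∈ K → ∃ a b : F, x = a • (1 : Mat) + b • j := fun x hx => by
    have h : x ∈ Submodule.span F (Set.range ![(1 : Mat), j]) := by rw [hspan]; exact hx
    obtain ⟨c, hc⟩ := (Submodule.mem_span_range_iff_exists_fun F).1 h
    exact ⟨c 0, c 1, by simpa [Fin.sum_univ_two] using hc.symm⟩
  obtain ⟨ν, hν⟩ : ∃ ν : F, j * j = ν • 1 := by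
    obtain ⟨a, b, hab⟩ := hmemK _ (K.mul_mem hjK hjK)
    refine ⟨a, ?_⟩
    have h := congrArg H49.adjS hab
    rw [H49.adjS_mul, hjs, neg_mul_neg, H49.adjS_add, H49.adjS_scalar, H49.adjS_smul, hjs, hab] at h
    have h' : (2 * b) • j = 0 := by linear_combination (norm := module) h
    rw [hab, (mul_eq_zero.1 ((smul_eq_zero.1 h').resolve_right hj0)).resolve_left h2, zero_smul, add_zero]
  have hνns : ¬ IsSquare ν := by
    rintro ⟨c, rfl⟩
    obtain ⟨y, -, hy⟩ := hK.inv _ (sub_mem hjK (K.smul_mem K.one_mem c)) (sub_ne_zero.2 (hjns c))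
    have hprod : (j + c • 1) * (j - c • 1) = 0 := by
      simp only [add_mul, mul_sub, mul_smul_comm, smul_mul_assoc, one_mul, mul_one, hν, smul_smul]
      module
    have : (j + c • 1) * ((j - c • 1) * y) = 0 := by rw [← mul_assoc, hprod, zero_mul]
    rw [hy, mul_one] at this
    exact hjns (-c) (by rw [neg_smul]; exact eq_neg_of_add_eq_zero_left this)
  refine ⟨ν, j, hνns, hν, hjs, fun g => ⟨fun hg => ?_, fun hg => ?_⟩⟩
  · obtain ⟨a, b, hab⟩ := hmemK _ ((hg j).1 hjK)
    have hgj : (g : Mat) * j = (a • 1 + b • j) * (g : Mat) := by rw [← hab, mul_assoc, Units.inv_mul, mul_one]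
    have hsq : (a • 1 + b • j) * (a • 1 + b • j) = ν • (1 : Mat) := by
      rw [← hab, show (g : Mat) * j * ((g⁻¹ : G) : Mat) * ((g : Mat) * j * ((g⁻¹ : G) : Mat)) =
        (g : Mat) * (j * j) * ((g⁻¹ : G) : Mat) by simp only [mul_assoc, Units.inv_mul_cancel_left],
        hν, mul_smul_comm, mul_one, smul_mul_assoc, Units.mul_inv]
    have hexp : (a * a + b * b * ν - ν) • (1 : Mat) + (2 * a * b) • j = 0 := by
      simp only [add_mul, mul_add, smul_mul_assoc, mul_smul_comm, one_mul, mul_one, hν, smul_smul] at hsq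
      linear_combination (norm := module) hsq
    obtain ⟨h1, h3⟩ := LinearIndependent.pair_iff.1 hli _ _ hexp
    rcases mul_eq_zero.1 h3 with ha | hb
    · have ha' : a = 0 := (mul_eq_zero.1 ha).resolve_left h2
      subst ha'
      have hν0 : ν ≠ 0 := fun h => hνns (h ▸ IsSquare.zero)
      have hb : b * b = 1 := mul_right_cancel₀ hν0 (by linear_combination h1)
      rw [zero_smul, zero_add, smul_mul_assoc] at hgj
      rcases mul_self_eq_one_iff.1 hb with rfl | rfl
      · exact Or.inl (by rw [hgj, one_smul])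
      · exact Or.inr (by rw [hgj, neg_one_smul])
    · subst hb
      exact absurd ⟨a, by linear_combination -h1⟩ hνns
  · obtain ⟨ε, hε, hgj⟩ : ∃ ε : F, ε * ε = 1 ∧ (g : Mat) * j = ε • (j * (g : Mat)) := by
      rcases hg with h | h
      · exact ⟨1, one_mul 1, by rw [h, one_smul]⟩
      · exact ⟨-1, by norm_num, by rw [h, neg_one_smul]⟩
    have hfwd : ∀ x ∈ K, (g : Mat) * x * ((g⁻¹ : G) : Mat) ∈ K := fun x hx => by
      obtain ⟨a, b, rfl⟩ := hmemK x hx
      rw [mul_add, add_mul, mul_smul_comm, mul_one, smul_mul_assoc, Units.mul_inv, mul_smul_comm, hgj, smul_mul_assoc,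
        smul_mul_assoc, mul_assoc, Units.mul_inv, mul_one]
      exact add_mem (K.smul_mem K.one_mem _) (K.smul_mem (K.smul_mem hjK _) _)
    refine fun x => ⟨hfwd x, fun hx => ?_⟩
    obtain ⟨a, b, hab⟩ := hmemK _ hx
    have hxe : x = ((g⁻¹ : G) : Mat) * (a • 1 + b • j) * (g : Mat) := by
      rw [← hab]; simp [mul_assoc]
    have hjg : j * (g : Mat) = ε • ((g : Mat) * j) := by rw [hgj, smul_smul, hε, one_smul]
    rw [hxe, mul_assoc, add_mul, smul_mul_assoc, smul_mul_assoc, one_mul, hjg, mul_add, mul_smul_comm, mul_smul_comm,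
      Units.inv_mul, mul_smul_comm, ← mul_assoc, Units.inv_mul, one_mul]
    exact add_mem (K.smul_mem K.one_mem _) (K.smul_mem (K.smul_mem hjK _) _)

/-- Moving an element to the given square root. -/
theorem fix_of_frame {ν ε : F} {J D : Mat} {x g gJ : Sp} (hgJ : J * (gJ : Mat) = (gJ : Mat) * skewStd d ν)
    (hxg : (x : Mat) * (g : Mat) = (g : Mat) * D) (hD : D * skewStd d ν = ε • (skewStd d ν * D)) :
    ∃ h : Sp, ((h⁻¹ * x * h : Sp) : Mat) * J = ε • (J * ((h⁻¹ * x * h : Sp) : Mat)) := by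
  refine ⟨g * gJ⁻¹, ?_⟩
  have h1 : ((g⁻¹ : Sp) : Mat) * (g : Mat) = 1 := congrArg Subtype.val (inv_mul_cancel g)
  have h3 : ((gJ⁻¹ : Sp) : Mat) * (gJ : Mat) = 1 := congrArg Subtype.val (inv_mul_cancel gJ)
  have h4 : (gJ : Mat) * ((gJ⁻¹ : Sp) : Mat) = 1 := congrArg Subtype.val (mul_inv_cancel gJ)
  have hJ' : ((gJ⁻¹ : Sp) : Mat) * J = skewStd d ν * ((gJ⁻¹ : Sp) : Mat) := by
    calc ((gJ⁻¹ : Sp) : Mat) * J = ((gJ⁻¹ : Sp) : Mat) * (J * ((gJ : Mat) * ((gJ⁻¹ : Sp) : Mat))) := by rw [h4, mul_one]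
      _ = _ := by rw [← mul_assoc J, hgJ, mul_assoc, ← mul_assoc, h3, one_mul]
  have hyy : (((g * gJ⁻¹)⁻¹ * x * (g * gJ⁻¹) : Sp) : Mat) = (gJ : Mat) * D * ((gJ⁻¹ : Sp) : Mat) := by
    rw [_root_.mul_inv_rev, inv_inv]
    simp only [Submonoid.coe_mul]
    rw [mul_assoc (gJ : Mat), mul_assoc ((gJ : Mat)), mul_assoc (gJ : Mat) D]
    congr 1
    rw [mul_assoc ((g⁻¹ : Sp) : Mat), ← mul_assoc (x : Mat), hxg, mul_assoc, ← mul_assoc, h1, one_mul]
  rw [hyy]
  calc _ = (gJ : Mat) * (D * skewStd d ν) * ((gJ⁻¹ : Sp) : Mat) := by simp only [mul_assoc, hJ']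
    _ = ε • ((gJ : Mat) * skewStd d ν * D * ((gJ⁻¹ : Sp) : Mat)) := by
      rw [hD, mul_smul_comm, smul_mul_assoc, ← mul_assoc]
    _ = _ := by rw [← hgJ]; simp only [mul_assoc]

/-- The criterion. -/
theorem unit_crit {p : ℕ} [hp : Fact p.Prime] [CharP F p] (hodd : Odd (Fintype.card F)) (hd : 2 ≤ d)
    {K : Subalgebra F Mat} (hK : Cfsg.Geo.IsFieldSubalgebra 2 K)
    (hac : Cfsg.Geo.IsAdjointClosedFor (Cfsg.sympForm d F) K) (hns : ¬ Cfsg.Geo.IsSelfAdjointFor (Cfsg.sympForm d F) K)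
    (r : ℕ) [hr : Fact r.Prime] (hΩ : r ∣ (Cfsg.Geo.subalgebraNormalizer K).relIndex (Cfsg.spGL d F)) :
    (∀ x ∈ Cfsg.spGL d F, (∃ z : F, ((x ^ r : G) : Mat) = z • (1 : Mat)) →
      (∀ z : F, (x : Mat) ≠ z • (1 : Mat)) →
      ∃ g ∈ Cfsg.spGL d F, g⁻¹ * x * g ∈ Cfsg.Geo.subalgebraNormalizer K) ↔ r = 2 := by
  classical
  have h2 : (2 : F) ≠ 0 := H49.two_ne_zero_of_odd hodd
  obtain ⟨ν, J, hν, hJJ, hJs, hnorm⟩ := exists_skew_generator (by omega) h2 hK hac hns
  haveI : Fact (¬ IsSquare ν) := ⟨hν⟩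
  have hν0 : ν ≠ 0 := fun h => hν (h ▸ IsSquare.zero)
  obtain ⟨gJ, hgJ⟩ := exists_conj_skew h2 hν hJJ hJs
  have hNmem : ∀ s : Sp, H49.spHom d F s ∈ Cfsg.Geo.subalgebraNormalizer K ↔
      ((s : Mat) * J = J * (s : Mat) ∨ (s : Mat) * J = -(J * (s : Mat))) := fun s => hnorm _
  haveI : Nonempty (Fin d ⊕ Fin d) := ⟨Sum.inl ⟨0, by omega⟩⟩
  constructor
  · intro hall
    by_contra hr2
    have hrodd := hr.out.odd_of_ne_two hr2
    have hcomm : ∀ s : Sp, orderOf s = r → H49.spHom d F s ∈ Cfsg.Geo.subalgebraNormalizer K →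
        J * (s : Mat) = (s : Mat) * J := by
      intro s hs hsN
      rcases (hNmem s).1 hsN with h | h
      · exact h.symm
      exfalso
      have hn : ∀ n : ℕ, (s : Mat) ^ n * J = (-1 : F) ^ n • (J * (s : Mat) ^ n) := by
        intro n
        induction n with
        | zero => simp
        | succ n ih =>
          rw [pow_succ, mul_assoc, h, mul_neg, ← mul_assoc, ih, smul_mul_assoc, mul_assoc, ← pow_succ, pow_succ (-1 : F),
            mul_neg_one, neg_smul]
      have h1 := hn r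
      have hsr : (s : Mat) ^ r = 1 := by
        rw [← SubmonoidClass.coe_pow, ← hs, pow_orderOf_eq_one]; rfl
      rw [hsr, one_mul, mul_one, hrodd.neg_one_pow, neg_one_smul] at h1
      have hJ0 : J = 0 := (smul_eq_zero.1 (show (2 : F) • J = 0 by
        rw [two_smul]; nth_rw 1 [h1]; exact neg_add_cancel J)).resolve_left h2
      rw [hJ0, mul_zero, eq_comm, smul_eq_zero] at hJJ
      exact hν0 (hJJ.resolve_right one_ne_zero)
    by_cases hrp : r = p
    · subst hrp
      obtain ⟨x, hx, hrk⟩ := H45.SpExtFix.exists_transvection (F := F) (d := d) (by omega) (p := r)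
      refine H45.SpExtFix.not_all_fix hr.out.one_lt (by omega) hx (Or.inr hrodd) (fun y hy hyr hyN => ?_) hall
      have hc := hcomm y hy hyN
      have hev := even_rank_of_comm hν hJJ (M := (y : Mat) - 1) (by rw [mul_sub, sub_mul, hc, mul_one, one_mul])
      obtain ⟨k, hk⟩ := hev
      have h0 : ((y : Mat) - 1).rank = 0 := by omega
      have hy1 : y = 1 := H48.sp_ext fun v => by
        have h1 : ((y : Mat) - 1).mulVecLin v = 0 :=
          (Submodule.mem_bot F).1 (Submodule.finrank_eq_zero.1 h0 ▸ LinearMap.mem_range_self _ v)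
        rw [one_smul]
        rwa [Matrix.mulVecLin_apply, Matrix.sub_mulVec, Matrix.one_mulVec, sub_eq_zero, ← H48.spSmulDef] at h1
      rw [hy1, orderOf_one] at hy
      exact hr.out.one_lt.ne hy
    have hQ : (Nat.card F : ZMod r) ≠ 0 := by
      obtain ⟨n, -, hn⟩ := FiniteField.card F p
      rw [Nat.card_eq_fintype_card, hn, Ne, ZMod.natCast_eq_zero_iff]
      exact fun h => hrp ((Nat.prime_dvd_prime_iff_eq hr.out hp.out).1 (hr.out.dvd_of_dvd_pow h))
    set η := orderOf ((Nat.card F : ZMod r) ^ 2) with hηdef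
    have hη : H49.EtaData (Nat.card F) r η := H45.SpExtFix.etaData_sq hr2 hQ
    have hηd : η ≤ d := by
      refine hη.le_of_dvd_card (n := d) ?_
      have h1 : r ∣ Nat.card (Cfsg.spGL d F) :=
        hΩ.trans (by rw [Subgroup.relIndex]; exact Subgroup.index_dvd_card _)
      rwa [H45.SpExtFix.spGL_eq_range, Nat.card_congr (MonoidHom.ofInjective H45.SpExtFix.spHom_injective).toEquiv.symm] at h1
    by_cases hcase : Odd (orderOf ((Nat.card F : ℕ) : ZMod r)) ∨ Even η
    · obtain ⟨x, hx, hrk⟩ := H45.SpExtFix.exists_one_block (F := F) hη hηd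
      refine H45.SpExtFix.not_all_fix hr.out.one_lt (by omega) hx (Or.inr hrodd) (fun y hy hyr hyN => ?_) hall
      exact derange_block hη hrp hν hJJ hJs hcase hy (hcomm y hy hyN) (by omega)
    · simp only [not_or, Nat.not_odd_iff_even, Nat.not_even_iff_odd] at hcase
      set C : G := H49.spHom d F gJ
      refine index_bound (d := d) (ν := ν) hη hcase.1 hcase.2
        (N := (Cfsg.Geo.subalgebraNormalizer K).comap (MulAut.conj C).toMonoidHom) (fun g _ hg => ?_) ?_
      · show MulAut.conj C g ∈ Cfsg.Geo.subalgebraNormalizer K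
        rw [hnorm, MulAut.conj_apply]
        left
        have hC : J * (C : Mat) = (C : Mat) * skewStd d ν := hgJ
        have hC' : ((C⁻¹ : G) : Mat) * J = skewStd d ν * ((C⁻¹ : G) : Mat) := by
          rw [Units.inv_mul_eq_iff_eq_mul, ← mul_assoc, ← hC, mul_assoc, Units.mul_inv, mul_one]
        simp only [Units.val_mul, mul_assoc, hC']
        rw [← mul_assoc (g : Mat), hg, mul_assoc, ← mul_assoc (C : Mat), ← hC, mul_assoc]
      · have hmap : (Cfsg.spGL d F).map (MulAut.conj C).toMonoidHom = Cfsg.spGL d F := by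
          refine le_antisymm ?_ fun g hg => ⟨C⁻¹ * g * C, ?_, by simp [mul_assoc]⟩
          · rintro _ ⟨g, hg, rfl⟩
            exact mul_mem (mul_mem (H49.spHom_mem_spGL gJ) hg) (inv_mem (H49.spHom_mem_spGL gJ))
          · exact mul_mem (mul_mem (inv_mem (H49.spHom_mem_spGL gJ)) hg) (H49.spHom_mem_spGL gJ)
        rw [Subgroup.relIndex_comap, hmap]
        exact hΩ
  · rintro rfl x hx ⟨z, hz⟩ _
    obtain ⟨x, rfl⟩ := H49.exists_spHom_eq hx
    rw [← map_pow] at hz
    have hzz : z * z = 1 := H44.Elu.scalar_sq (x := x) (r := 2) (by omega) hz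
    have hxx : ∀ v : Fin d ⊕ Fin d → F, x • x • v = z • v := fun v => by
      rw [← mul_smul, ← pow_two, ← H49.spHom_mulVec, hz, Matrix.smul_mulVec, Matrix.one_mulVec]
    obtain ⟨h, ε, hε, hy⟩ : ∃ (h : Sp) (ε : F), ε * ε = 1 ∧
        ((h⁻¹ * x * h : Sp) : Mat) * J = ε • (J * ((h⁻¹ * x * h : Sp) : Mat)) := by
      by_cases hsq : IsSquare z
      · obtain ⟨s₀, hs₀⟩ := hsq
        obtain ⟨g, s, hs, hxg⟩ := exists_diag h2 (mul_self_eq_one_iff.1 hzz) hs₀.symm x hxx
        refine ⟨_, z, hzz, (fix_of_frame hgJ hxg ?_).choose_spec⟩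
        have hsi : ∀ i, (s i)⁻¹ = z * s i := fun i => by
          refine inv_eq_of_mul_eq_one_right ?_
          rw [mul_left_comm, hs, hzz]
        rw [← Matrix.fromBlocks_diagonal, skewStd, Matrix.fromBlocks_multiply, Matrix.fromBlocks_multiply, Matrix.fromBlocks_smul]
        congr 1 <;> ext i k <;> by_cases hik : i = k <;> simp [hik, hsi]
        · linear_combination (-(ν * s k)) * hzz
      · have hz1 : z = -1 := (mul_self_eq_one_iff.1 hzz).resolve_left fun h1 => hsq (h1 ▸ IsSquare.one)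
        subst hz1
        obtain ⟨c, hc⟩ : IsSquare (-1 * ν) := by
          have hne : (-1 : F) ≠ 0 := neg_ne_zero.2 one_ne_zero
          have hp2 : ringChar F ≠ 2 := fun e => h2 (by
            rw [show (2 : F) = ((2 : ℕ) : F) by norm_num, ← e]; exact @CharP.cast_eq_zero F _ (ringChar F) (ringChar.charP F))
          rw [FiniteField.isSquare_iff hp2 (mul_ne_zero hne hν0), mul_pow,
            (FiniteField.pow_dichotomy hp2 hne).resolve_left (fun h => hsq ((FiniteField.isSquare_iff hp2 hne).2 h)),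
            H45.OrthExtFix.pow_half_nonsquare]
          norm_num
        have hc0 : c ≠ 0 := fun h0 => hν0 (by rw [h0, mul_zero] at hc; simpa using hc)
        have hxx' : (x : Mat) * (x : Mat) = -1 := by
          refine Matrix.ext_iff_mulVec.2 fun v => ?_
          rw [← Matrix.mulVec_mulVec, ← H48.spSmulDef, ← H48.spSmulDef, hxx, Matrix.neg_mulVec, Matrix.one_mulVec, neg_one_smul]
        have hxadj : H49.adjS (x : Mat) = -(x : Mat) := by
          have h1 : H49.adjS (x : Mat) * (x : Mat) = 1 := H49.mem_sp_iff_adjS.1 x.2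
          calc _ = -(H49.adjS (x : Mat) * ((x : Mat) * (x : Mat))) := by rw [hxx', mul_neg, mul_one, neg_neg]
            _ = _ := by rw [← mul_assoc, h1, one_mul]
        obtain ⟨g, hg⟩ := exists_conj_skew h2 hν (J := c • (x : Mat))
          (by rw [smul_mul_smul_comm, hxx', ← hc, smul_neg, ← neg_smul, neg_mul, neg_neg, one_mul])
          (by rw [H49.adjS_smul, hxadj, smul_neg])
        refine ⟨_, 1, one_mul 1, (fix_of_frame (D := c⁻¹ • skewStd d ν) (ε := 1) (x := x) (g := g) hgJ ?_ ?_).choose_spec⟩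
        · rw [mul_smul_comm, ← hg, smul_mul_assoc, smul_smul, inv_mul_cancel₀ hc0, one_smul]
        · rw [one_smul, smul_mul_assoc, mul_smul_comm]
    refine ⟨H49.spHom d F h, H49.spHom_mem_spGL h, ?_⟩
    rw [← map_inv, ← map_mul, ← map_mul, hNmem]
    rcases mul_self_eq_one_iff.1 hε with rfl | rfl
    · exact Or.inl (by rw [hy, one_smul])
    · exact Or.inr (by rw [hy, neg_one_smul])

end SpUnitFix

end H45
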